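import Cfsg.Agent.H0.EFi23.D
import Cfsg.Agent.H0.MFi22.Main
set_option maxRecDepth 100000
set_option Elab.async false
set_option linter.unusedSectionVars false
namespace H0.EFi23
open H0 BN 
theorem defs_ok : DefsOK R.p defs 23 := (defsOK_cons (eq_of_bits R (eqb_step R (eqb_step R (eqb_step R (eqb_zero R [23] [0]) c42) c43) c44)) (by decide) (defsOK_cons (eq_of_bits R (eqb_step R (eqb_step R (eqb_step R (eqb_zero R [24] [1]) c39) c40) c41)) (by decide) (defsOK_cons (eq_of_bits R (eqb_step R (eqb_step R (eqb_step R (eqb_zero R [25] [2]) c36) c37) c38)) (by decide) (defsOK_cons (eq_of_bits R (eqb_step R (eqb_step R (eqb_step R (eqb_zero R [26] [3]) c33) c34) c35)) (by decide) (defsOK_cons (eq_of_bits R (eqb_step R (eqb_step R (eqb_step R (eqb_zero R [27] [4]) c30) c31) c32)) (by decide) (defsOK_cons (eq_of_bits R (eqb_step R (eqb_step R (eqb_step R (eqb_zero R [28]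 [5]) c27) c28) c29)) (by decide) (defsOK_cons (eq_of_bits R (eqb_step R (eqb_step R (eqb_step R (eqb_zero R [29] [6]) c24) c25) c26)) (by decide) (defsOK_cons (eq_of_bits R (eqb_step R (eqb_step R (eqb_step R (eqb_zero R [30] [8]) c21) c22) c23)) (by decide) (defsOK_cons (eq_of_bits R (eqb_step R (eqb_step R (eqb_step R (eqb_zero R [31] [9]) c18) c19) c20)) (by decide) (defsOK_cons (eq_of_bits R (eqb_step R (eqb_step R (eqb_step R (eqb_zero R [32] [13, 13, 12, 13, 12, 13, 13, 12, 13, 12, 12, 12, 13, 15, 15, 15, 14, 15, 14, 14, 14, 15, 14, 14, 15, 18, 18, 17, 17, 18, 18, 18, 20, 20, 19, 19]) c15) c16) c17)) (by decide) (defsOK_cons (eq_of_bits R (eqb_step R (eqb_step R (eqb_step R (eqb_zero R [33] [11, 10, 11, 11, 10, 11, 11, 11, 10, 10, 10, 12, 12, 12, 13, 12, 12, 12, 13, 13, 13, 12, 12, 12, 13, 12, 13, 15, 14, 15, 15, 14, 15, 15, 15, 15, 14, 14, 16, 17, 16, 18,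 18, 18, 16, 17, 21, 21, 20]) c12) c13) c14)) (by decide) (defsOK_cons (eq_of_bits R (eqb_step R (eqb_step R (eqb_step R (eqb_zero R [34] [13, 12, 12, 13, 13, 12, 12, 12, 12, 12, 13, 13, 12, 14, 15, 14, 15, 14, 15, 14, 14, 15, 15, 14, 17, 16, 18, 17, 18, 17, 17, 18, 21, 19]) c9) c10) c11)) (by decide) (defsOK_nil _ _)))))))))))))
universe u
variable {G : Type u} [Group G] [Finite G] (m0 : Model G) (h0 : m0.R = H0.MFi23.R)
noncomputable def m : Model G := m0.ext (lg := nat_lit 15) (N := nat_lit 32768) (l := H0.MFi23.nl) h0 nl nl_ok 23 rfl defs defs_ok (by decide +kernel)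
theorem mR : (m m0 h0).R = R := rfl
variable (hb : m0.pst [2, 20380, 6320, 1, 0] = ⊥) (hc : Nat.card G = 4089470473293004800)
include h0 hb hc
theorem base : (m m0 h0).pst [2, 20380, 6320, 1, 0] = ⊥ := hb
omit hb hc in
theorem geq {x : ℕ} (h : x < 23) : (m m0 h0).g x = m0.g x := m0.ext_g h0 _ _ _ _ _ _ _ h
theorem U_cov : CCov (gen (m m0 h0).g ((lets 10).map (sh 23))) (PG 9 H0.MFi22.B) 2 :=
  haveI := H0.MFi22.simple (Pres.pg _ _)
  ccov_emb _ 23 [0, 0, 0, 0, 0, 0, 0, 0, 0, 0, 0, 0, 0, 0, 0, 0, 0, 0, 0, 0, 0, 0, 0, 0, 0, 0, 0, 0, 0, 0, 0, 0, 0, 0, 0, 0, 0, 0, 0, 0, 0, 0, 0, 0, 0, 0, 0, 1] [0, 0, 0, 0, 0, 0, 0, 0, 0, 1, 0, 0, 0, 0, 0, 0, 0, 1, 0, 0, 0, 0, 0, 0, 1, 0, 0, 0, 0, 0, 1, 0, 0, 0, 0, 1, 0, 0, 0, 1, 0, 0, 0, 0, 0, 0, 1, 1] (by decide) this (perfect_of_simple (by rw [H0.MFi22.card (Pres.pg _ _)]; exact Nat.not_prime_of_dvd_of_lt (m := 2) (by decide) le_rfl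 (by decide)))
    (all_take_done (all_take_step (all_take_step (all_take_step (all_take_zero _ (shE 23 (covE 9 H0.MFi22.B [0, 0, 0, 0, 0, 0, 0, 0, 0, 0, 0, 0, 0, 0, 0, 0, 0, 0, 0, 0, 0, 0, 0, 0, 0, 0, 0, 0, 0, 0, 0, 0, 0, 0, 0, 0, 0, 0, 0, 0, 0, 0, 0, 0, 0, 0, 0, 1] ++ [(List.replicate 2 9, [])]))) ((m m0 h0).pairs_of (base m0 h0 hb hc) (Model.via _ (mR m0 h0) (fun R => pairsB R [2, 20380, 6320, 1, 0] (((shE 23 (covE 9 H0.MFi22.B [0, 0, 0, 0, 0, 0, 0, 0, 0, 0, 0, 0, 0, 0, 0, 0, 0, 0, 0, 0, 0, 0, 0, 0, 0, 0, 0, 0, 0, 0, 0, 0, 0, 0, 0, 0, 0, 0, 0, 0, 0, 0, 0, 0, 0, 0, 0, 1] ++ [(List.replicate 2 9, [])])).drop 0).take 39)) c0))) ((m m0 h0).pairs_of (base m0 h0 hb hc) (Model.via _ (mR m0 h0) (fun R => pairsB R [2, 20380, 6320, 1, 0] (((shE 23 (covE 9 H0.MFi22.B [0, 0, 0, 0, 0, 0, 0, 0, 0, 0, 0, 0, 0, 0, 0, 0, 0, 0, 0, 0, 0, 0, 0, 0, 0, 0, 0, 0, 0, 0, 0, 0, 0, 0, 0,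 0, 0, 0, 0, 0, 0, 0, 0, 0, 0, 0, 0, 1] ++ [(List.replicate 2 9, [])])).drop 39).take 8)) c1))) ((m m0 h0).pairs_of (base m0 h0 hb hc) (Model.via _ (mR m0 h0) (fun R => pairsB R [2, 20380, 6320, 1, 0] (((shE 23 (covE 9 H0.MFi22.B [0, 0, 0, 0, 0, 0, 0, 0, 0, 0, 0, 0, 0, 0, 0, 0, 0, 0, 0, 0, 0, 0, 0, 0, 0, 0, 0, 0, 0, 0, 0, 0, 0, 0, 0, 0, 0, 0, 0, 0, 0, 0, 0, 0, 0, 0, 0, 1] ++ [(List.replicate 2 9, [])])).drop 47).take 11)) c2))) (by decide +kernel)) ((m m0 h0).ne_of_neB (Model.via _ (mR m0 h0) (fun R => neB R [32] [] 1 28160 1) c3)) (x := 1) (y := 0) ((m m0 h0).ne_of_neB (Model.via _ (mR m0 h0) (fun R => neB R [24, 23] [23, 24] 3 168 414) c4)) (by decide +kernel)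
omit hb hc in
theorem U_fix : gen (m m0 h0).g ((lets 10).map (sh 23)) ≤ m0.pst [0] := (m m0 h0).gen_le_of_fixP (Model.via _ (mR m0 h0) (fun R => Model.fixP R [0] ((lets 10).map (sh 23))) c5)
theorem ne : ev (m m0 h0).g [32, 33] ≠ ev (m m0 h0).g [33, 32] := ((m m0 h0).ne_of_neB (Model.via _ (mR m0 h0) (fun R => neB R [32, 33] [33, 32] 0 1 28160) c6))
theorem tt (hH : gen m0.g H0.MFi23.subs = m0.pst [0]) (hco : IsCoatom (m0.pst [0])) (hgen : Subgroup.normalClosure {(m m0 h0).g 32} = ⊤) (ht : m0.orb ⊤ 0 = Set.Ico 0 (0 + 31671))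
    (h1 : m0.orb (gen m0.g H0.MFi23.subs) (m0.φ (ev m0.g [11]) 0) = Set.Ico 1 (1 + 28160)) (h2 : m0.orb (gen m0.g H0.MFi23.subs) (m0.φ (ev m0.g [11, 11, 10]) 0) = Set.Ico 28161 (28161 + 3510)) :
    Cfsg.IsThreeTranspositionClass (conjugatesOf ((m m0 h0).g 32)) ∧ Nat.card (conjugatesOf ((m m0 h0).g 32)) = (gen m0.g H0.MFi23.subs).index ∧
      ∀ e ∈ conjugatesOf ((m m0 h0).g 32), ∃ f : G ≃* G, (gen m0.g H0.MFi23.subs).map f.toMonoidHom = Subgroup.centralizer {e} :=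
  (m m0 h0).tt3 (k1 := 3) (k2 := 2) (e1 := 33) (e2 := 34) (a := 28160) hH hco
    ((gen_congr (k := 23) (fun _ h => geq m0 h0 h) (by decide +kernel)).ge.trans (gen_le_cent (all_take_done (all_take_step (all_take_zero _ (cmE 32 H0.MFi23.subs)) ((m m0 h0).pairs_of (base m0 h0 hb hc) (Model.via _ (mR m0 h0) (fun R => pairsB R [2, 20380, 6320, 1, 0] (((cmE 32 H0.MFi23.subs).drop 0).take 9)) c7))) (by decide +kernel))))
    (all_take_done (all_take_step (all_take_zero _ (ttE 32 33 34 3 2 [11] [11, 11, 10])) ((m m0 h0).pairs_of (base m0 h0 hb hc) (Model.via _ (mR m0 h0) (fun R => pairsB R [2, 20380, 6320, 1, 0] (((ttE 32 33 34 3 2 [11] [11, 11, 10]).drop 0).take 5)) c8))) (by decide +kernel)) (ne m0 h0 hb hc) hgen ht ((ev_congr (k := 23) (fun _ h => geq m0 h0 h) (w := [11]) (by decide)) ▸ h1) ((ev_congr (k := 23) (fun _ h => geq m0 h0 h) (w := [11, 11, 10]) (by decide))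 ▸ h2) (by decide)
end H0.EFi23
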